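import Mathlib

set_option autoImplicit false
open TopologicalSpace
universe u

namespace Groth.Agent.SemilocalPruferLib

variable (R : Type u) [CommRing R]

theorem le_or_le [IsDomain R] (hR : ∀ (p : Ideal R) [p.IsPrime], ValuationRing (Localization.AtPrime p))
    {p q m : Ideal R} [p.IsPrime] [q.IsPrime] [m.IsPrime] (hp : p ≤ m) (hq : q ≤ m) : p ≤ q ∨ q ≤ p := by
  haveI := hR m
  have key : ∀ r : Ideal R, r.IsPrime → r ≤ m →
      (r.map (algebraMap R (Localization.AtPrime m))).comap (algebraMap R (Localization.AtPrime m)) = r := by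
    intro r hr hrm
    exact IsLocalization.comap_map_of_isPrime_disjoint m.primeCompl _ hr
      (Set.disjoint_left.2 fun x hx hxr => hx (hrm hxr))
  rcases (PreValuationRing.iff_ideal_total.mp (inferInstance : PreValuationRing (Localization.AtPrime m))).total
    (p.map (algebraMap R (Localization.AtPrime m))) (q.map (algebraMap R (Localization.AtPrime m))) with h | h
  · left; rw [← key p inferInstance hp, ← key q inferInstance hq]; exact Ideal.comap_mono h
  · right; rw [← key p inferInstance hp, ← key q inferInstance hq]; exact Ideal.comap_mono h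

theorem finite_spec [IsDomain R] (hR : ∀ (p : Ideal R) [p.IsPrime], ValuationRing (Localization.AtPrime p))
    (hfin : Finite (MaximalSpectrum R)) (hdim : ringKrullDim R < ⊤) : Finite (PrimeSpectrum R) := by
  have hne : ∀ p : PrimeSpectrum R, Order.height p < ⊤ := by
    intro p
    have h : ((Order.height p : ℕ∞) : WithBot ℕ∞) < ((⊤ : ℕ∞) : WithBot ℕ∞) :=
      (Order.height_le_krullDim p).trans_lt hdim
    exact WithBot.coe_lt_coe.1 h
  obtain ⟨N, hN⟩ : ∃ N : ℕ, ringKrullDim R ≤ (N : WithBot ℕ∞) := by
    revert hdim
    generalize ringKrullDim R = d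
    intro hd
    induction d with
    | bot => exact ⟨0, bot_le⟩
    | coe a =>
      induction a with
      | top => exact absurd hd (lt_irrefl _)
      | coe n => exact ⟨n, le_rfl⟩
  have hle : ∀ p : PrimeSpectrum R, Order.height p ≤ (N : ℕ∞) := fun p =>
    WithBot.coe_le_coe.1 ((Order.height_le_krullDim p).trans hN)
  choose m hm using fun p : PrimeSpectrum R => Ideal.exists_le_maximal p.asIdeal p.isPrime.ne_top
  refine Finite.of_injective (fun p => ((⟨m p, (hm p).1⟩ : MaximalSpectrum R),
    (⟨(Order.height p).toNat, Nat.lt_succ_of_le (ENat.toNat_le_of_le_coe (hle p))⟩ : Fin (N + 1)))) ?_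
  intro p q hpq
  simp only [Prod.mk.injEq, MaximalSpectrum.mk.injEq, Fin.mk.injEq] at hpq
  have hh : Order.height p = Order.height q := by
    rw [← ENat.coe_toNat (hne p).ne, ← ENat.coe_toNat (hne q).ne, hpq.2]
  haveI := (hm p).1.isPrime
  rcases le_or_le R hR (hm p).2 ((hm q).2.trans hpq.1.symm.le) with h | h
  · rcases (show p ≤ q from h).eq_or_lt with h' | h'
    · exact h'
    · exact absurd hh (Order.height_strictMono h' (hne p)).ne
  · rcases (show q ≤ p from h).eq_or_lt with h' | h'
    · exact h'.symm
    · exact absurd hh (Order.height_strictMono h' (hne q)).ne'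

theorem noetherianSpace_of_finite_spec [Finite (PrimeSpectrum R)] (S : Type u) [CommRing S] [Algebra R S]
    [Algebra.FiniteType R S] : NoetherianSpace (PrimeSpectrum S) := by
  rw [← noetherian_univ_iff]
  have : (Set.univ : Set (PrimeSpectrum S)) =
      ⋃ p : PrimeSpectrum R, PrimeSpectrum.comap (algebraMap R S) ⁻¹' {p} := by
    ext x; simp
  rw [this]
  haveI : ∀ p : PrimeSpectrum R,
      NoetherianSpace (PrimeSpectrum.comap (algebraMap R S) ⁻¹' {p} : Set (PrimeSpectrum S)) := by
    intro p
    haveI : IsNoetherianRing (p.asIdeal.Fiber S) := Algebra.FiniteType.isNoetherianRing p.asIdeal.ResidueField _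
    exact (PrimeSpectrum.preimageHomeomorphFiber R S p).isInducing.noetherianSpace
  exact NoetherianSpace.iUnion _

end Groth.Agent.SemilocalPruferLib
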